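import Groth.Agent.Fano.K714.RatDef
import Groth.Agent.Fga.HilbClosed

/-!
# Flat families of closed subschemes give morphisms to the Hilbert scheme

`exists_hom_of_family`: a closed subscheme `W ⊆ X ×_k Spec R`, proper and flat over the Noetherian `k`-algebra `R`, gives a
morphism `Spec R → H`; at a `k`-point `m : R → k` the corresponding closed subscheme of `X` is the fibre of `W`.
-/

set_option autoImplicit false
universe u
open CategoryTheory CategoryTheory.Limits AlgebraicGeometry TopologicalSpace Opposite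

namespace Groth.Agent.Fano.K434.HilbFam

open Groth.Agent.Fano.K714.Rat Groth.Agent.Fga Groth.Agent.Fga.HilbClosed

/-- The ideal sheaf of a closed immersion `ℓ : W → X_T` with `W` proper and flat over `T`. -/
theorem mem_of_closed {X S : Scheme.{u}} (f : X ⟶ S) (T : Over S) {W : Scheme.{u}} (ℓ : W ⟶ PicF.XT f T)
    [IsClosedImmersion ℓ] (h1 : IsProper (ℓ ≫ PicF.XTproj f T)) (h2 : Flat (ℓ ≫ PicF.XTproj f T)) :
    IsProper (ℓ.ker.subschemeι ≫ PicF.XTproj f T) ∧ Flat (ℓ.ker.subschemeι ≫ PicF.XTproj f T) := by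
  have h : ℓ.toImage ≫ ℓ.ker.subschemeι = ℓ := ℓ.toImage_imageι
  have hiso : IsIso ℓ.toImage := inferInstance
  have h3 : ℓ ≫ PicF.XTproj f T = ℓ.toImage ≫ ℓ.ker.subschemeι ≫ PicF.XTproj f T := by
    rw [← Category.assoc, h]
  rw [h3] at h1 h2
  rw [MorphismProperty.cancel_left_of_respectsIso @IsProper] at h1
  rw [MorphismProperty.cancel_left_of_respectsIso @Flat] at h2
  exact ⟨h1, h2⟩

theorem exists_hom_of_family {k : Type u} [Field k] {X : Scheme.{u}} (x : X ⟶ Spec (CommRingCat.of k))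
    (H : Over (Spec (CommRingCat.of k))) (Z : FGA.HilbSet x H) (hH : FGA.HilbRepresentedBy x H Z)
    (R : Type u) [CommRing R] [IsNoetherianRing R] (σ : k →+* R)
    {W : Scheme.{u}} (w : W ⟶ Spec (CommRingCat.of R)) (j : W ⟶ X) [IsProper w] [Flat w]
    (hjw : j ≫ x = w ≫ Spec.map (CommRingCat.ofHom σ))
    (hcl : IsClosedImmersion (pullback.lift j w hjw)) :
    ∃ g : Over.mk (Spec.map (CommRingCat.ofHom σ)) ⟶ H,
      ∀ (m : R →+* k) (hm : Spec.map (CommRingCat.ofHom m) ≫ Spec.map (CommRingCat.ofHom σ) =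
          𝟙 (Spec (CommRingCat.of k)))
        (W₀ : Scheme.{u}) (w₀ : W₀ ⟶ Spec (CommRingCat.of k)) (e : W₀ ⟶ W)
        (_ : IsPullback e w₀ w (Spec.map (CommRingCat.ofHom m))),
        FGA.hilbPull x ((Over.homMk (Spec.map (CommRingCat.ofHom m)) hm :
            pt k ⟶ Over.mk (Spec.map (CommRingCat.ofHom σ))) ≫ g) Z.1 =
          (e ≫ j).ker.comap (pullback.fst x (pt k).hom) := by
  let T : Over (Spec (CommRingCat.of k)) := Over.mk (Spec.map (CommRingCat.ofHom σ))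
  have hN : IsLocallyNoetherian T.left := inferInstanceAs (IsLocallyNoetherian (Spec (CommRingCat.of R)))
  let ℓ : W ⟶ PicF.XT x T := pullback.lift j w hjw
  have hℓ : IsClosedImmersion ℓ := hcl
  have hℓ1 : ℓ ≫ pullback.fst x T.hom = j := pullback.lift_fst _ _ _
  have hℓ2 : ℓ ≫ PicF.XTproj x T = w := pullback.lift_snd _ _ _
  obtain ⟨g, hg, -⟩ := hH.2 T ⟨ℓ.ker, mem_of_closed x T ℓ (by rw [hℓ2]; infer_instance) (by rw [hℓ2]; infer_instance)⟩
  refine ⟨g, fun m hm W₀ w₀ e hpb => ?_⟩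
  let μ : pt k ⟶ T := Over.homMk (Spec.map (CommRingCat.ofHom m)) hm
  have hw₀ : (e ≫ j) ≫ x = w₀ ≫ (pt k).hom := by
    rw [Category.assoc, hjw, ← Category.assoc, hpb.w, Category.assoc, hm]
    rfl
  let ℓ₀ : W₀ ⟶ PicF.XT x (pt k) := pullback.lift (e ≫ j) w₀ hw₀
  have hℓ₀1 : ℓ₀ ≫ pullback.fst x (pt k).hom = e ≫ j := pullback.lift_fst _ _ _
  have hℓ₀2 : ℓ₀ ≫ PicF.XTproj x (pt k) = w₀ := pullback.lift_snd _ _ _
  -- the square of closed immersions
  have hX := RelCart.isPullback_XTmap x μ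
  have hcomm : e ≫ ℓ = ℓ₀ ≫ PicF.XTmap x μ := by
    apply pullback.hom_ext
    · rw [Category.assoc, Category.assoc, FGA.XTmap_fst, hℓ1, hℓ₀1]
    · have h1 : (e ≫ ℓ) ≫ PicF.XTproj x T = (ℓ₀ ≫ PicF.XTmap x μ) ≫ PicF.XTproj x T := by
        rw [Category.assoc, hℓ2, Category.assoc, hX.w, ← Category.assoc, hℓ₀2]
        exact hpb.w
      exact h1
  have hsq : IsPullback e ℓ₀ ℓ (PicF.XTmap x μ) := by
    refine IsPullback.of_bot ?_ hcomm hX
    rw [hℓ₀2, hℓ2]
    exact hpb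
  have h1 : ℓ₀.ker = ℓ.ker.comap (PicF.XTmap x μ) := ker_of_isPullback hsq
  -- the identification `X ×_k Spec k = X`
  have hiso : IsIso (pullback.fst x (pt k).hom) := by
    have : IsIso (pt k).hom := inferInstanceAs (IsIso (𝟙 (Spec (CommRingCat.of k))))
    infer_instance
  have hcl₀ : IsClosedImmersion ℓ₀ := MorphismProperty.of_isPullback (P := @IsClosedImmersion) hsq hℓ
  have hej : IsClosedImmersion (e ≫ j) := by
    rw [← hℓ₀1]
    infer_instance
  have hsq2 : IsPullback (𝟙 W₀) ℓ₀ (e ≫ j) (pullback.fst x (pt k).hom) :=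
    IsPullback.of_horiz_isIso ⟨by rw [Category.id_comp, hℓ₀1]⟩
  have h2 : ℓ₀.ker = (e ≫ j).ker.comap (pullback.fst x (pt k).hom) := ker_of_isPullback hsq2
  rw [← h2, h1]
  change FGA.hilbPull x (μ ≫ g) Z.1 = _
  rw [hilbPull_comp, hg, RelCart.hilbPull_eq_comap]

end Groth.Agent.Fano.K434.HilbFam
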