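import Groth.Agent.Fano.K434.OpenMapAlg
import Groth.Agent.Fano.K714.Codim

/-!
# Nearby zeros of a system of polynomial equations with surjective differential (job CT5 of S16526)

`open_map`: `h : V × W → k^ι` polynomial with a zero `(x₀, w₀)` at which the differential in the direction of `W` is
surjective, `O` an open neighbourhood of `(x₀, w₀)`.  Then every `x` in a Zariski open neighbourhood of `x₀` has a `w`
with `(x, w) ∈ O` and `h (x, w) = 0`.  The proof reduces to a square system (a linear section of the differential) and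
uses that étale algebras have open image (`OpenMapAlg.square`).
-/

set_option autoImplicit false

universe u

namespace K434.OpenMap

open LefPen Groth.Agent.Lefpen.H703.ZOpen Module MvPolynomial K714.Codim

variable {k : Type u} [Field k]

/-- polynomials in two sets of variables as polynomials over polynomials -/
noncomputable def sw {σ κ : Type} : MvPolynomial (σ ⊕ κ) k →ₐ[k] MvPolynomial κ (MvPolynomial σ k) :=
  aeval (Sum.elim (fun i => C (X i)) X)

theorem evv_sw {σ κ : Type} (x : σ → k) (u : κ → k) (P : MvPolynomial (σ ⊕ κ) k) :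
    evv x u (sw P) = eval (Sum.elim x u) P := by
  have h : (evv x u).comp (sw (σ := σ) (κ := κ) (k := k) : MvPolynomial (σ ⊕ κ) k →+* _) = eval (Sum.elim x u) := by
    refine MvPolynomial.ringHom_ext (fun c => ?_) (fun i => ?_)
    · have h1 : (sw (C c : MvPolynomial (σ ⊕ κ) k) : MvPolynomial κ (MvPolynomial σ k)) = C (C c) := by
        rw [← MvPolynomial.algebraMap_eq, AlgHom.commutes]
        rfl
      simp only [RingHom.comp_apply, RingHom.coe_coe]
      rw [h1, evv_C, eval_C, eval_C]
    · rcases i with i | j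
      · simp only [RingHom.comp_apply, RingHom.coe_coe]
        rw [sw, aeval_X, Sum.elim_inl, evv_C, eval_X, eval_X, Sum.elim_inl]
      · simp only [RingHom.comp_apply, RingHom.coe_coe]
        rw [sw, aeval_X, Sum.elim_inr, evv_X, eval_X, Sum.elim_inr]
  exact congrArg (fun φ : MvPolynomial (σ ⊕ κ) k →+* k => φ P) h

section Deriv

variable {σ κ : Type}

/-- restriction of `P(x, -)` to the line `u + τ w` -/
noncomputable def ln (x : σ → k) (u w : κ → k) : MvPolynomial κ (MvPolynomial σ k) →+* Polynomial k :=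
  eval₂Hom (Polynomial.C.comp (eval x)) fun j => Polynomial.C (u j) + Polynomial.C (w j) * Polynomial.X

theorem ln_C (x : σ → k) (u w : κ → k) (a : MvPolynomial σ k) : ln x u w (C a) = Polynomial.C (eval x a) := by
  simp [ln]

theorem ln_X (x : σ → k) (u w : κ → k) (j : κ) :
    ln x u w (X j) = Polynomial.C (u j) + Polynomial.C (w j) * Polynomial.X := by
  simp [ln]

theorem eval_ln (x : σ → k) (u w : κ → k) (P : MvPolynomial κ (MvPolynomial σ k)) (τ : k) :
    (ln x u w P).eval τ = evv x (u + τ • w) P := by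
  have h : (Polynomial.evalRingHom τ).comp (ln x u w) = evv x (u + τ • w) := by
    refine eq_evv _ _ (fun c => ?_) (fun i => ?_) (fun j => ?_)
    · rw [RingHom.comp_apply, ln_C, evv_C]; simp
    · rw [RingHom.comp_apply, ln_C, evv_C]; simp
    · rw [RingHom.comp_apply, ln_X, evv_X]
      simp only [Polynomial.coe_evalRingHom, Polynomial.eval_add, Polynomial.eval_mul, Polynomial.eval_C,
        Polynomial.eval_X, Pi.add_apply, Pi.smul_apply, smul_eq_mul]
      rw [mul_comm (w j) τ]
  exact congrArg (fun φ : MvPolynomial κ (MvPolynomial σ k) →+* k => φ P) h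

theorem eval_ln_zero (x : σ → k) (u w : κ → k) (P : MvPolynomial κ (MvPolynomial σ k)) :
    (ln x u w P).eval 0 = evv x u P := by
  rw [eval_ln, zero_smul, add_zero]

theorem deriv_ln [Fintype κ] [DecidableEq κ] (x : σ → k) (u w : κ → k) (P : MvPolynomial κ (MvPolynomial σ k)) :
    (Polynomial.derivative (ln x u w P)).eval 0 = ∑ j, w j * evv x u (pderiv j P) := by
  induction P using MvPolynomial.induction_on with
  | C a => simp [ln_C]
  | add p q hp hq => simp only [map_add, Polynomial.eval_add, hp, hq, mul_add, Finset.sum_add_distrib]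
  | mul_X p n hp =>
    rw [map_mul, Polynomial.derivative_mul, Polynomial.eval_add, Polynomial.eval_mul, Polynomial.eval_mul, hp,
      eval_ln_zero, eval_ln_zero, evv_X, ln_X]
    have h1 : ∀ j : κ, evv x u (pderiv j (p * X n)) = evv x u (pderiv j p) * u n + evv x u p *
        (if j = n then 1 else 0) := by
      intro j
      rw [Derivation.leibniz, smul_eq_mul, smul_eq_mul, map_add, map_mul, map_mul, evv_X, pderiv_X]
      by_cases hj : j = n
      · subst hj
        simp [mul_comm, add_comm]
      · rw [Pi.single_eq_of_ne (Ne.symm hj), map_zero, if_neg hj]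
        ring
    simp only [h1, mul_add, Finset.sum_add_distrib]
    simp only [Polynomial.derivative_add, Polynomial.derivative_C, Polynomial.derivative_mul,
      Polynomial.derivative_X, zero_mul, zero_add, mul_one, Polynomial.eval_C, Finset.sum_mul, mul_assoc]
    congr 1
    simp [mul_comm]

theorem sum_pderiv [Infinite k] [Fintype κ] [DecidableEq κ] {x : σ → k} {u w : κ → k}
    {P : MvPolynomial κ (MvPolynomial σ k)} {d : k} {q : Polynomial k}
    (h : ∀ τ : k, evv x (u + τ • w) P = τ * d + τ ^ 2 * q.eval τ) : ∑ j, w j * evv x u (pderiv j P) = d := by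
  have h1 : ln x u w P = Polynomial.X * Polynomial.C d + Polynomial.X ^ 2 * q :=
    Polynomial.funext fun τ => by
      rw [eval_ln, h, Polynomial.eval_add, Polynomial.eval_mul, Polynomial.eval_X, Polynomial.eval_C,
        Polynomial.eval_mul, Polynomial.eval_pow, Polynomial.eval_X]
  rw [← deriv_ln, h1]
  simp [Polynomial.derivative_mul]

end Deriv

variable [IsAlgClosed k] {V W : Type u} [AddCommGroup V] [Module k V] [AddCommGroup W] [Module k W]
  [FiniteDimensional k V]

/-- Square systems. -/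
theorem open_sq {κ : Type} [Finite κ] {h : κ → V × (κ → k) → k} (hh : ∀ i, IsPolyFun k (h i)) {x₀ : V} {u₀ : κ → k}
    (h0 : ∀ i, h i (x₀, u₀) = 0)
    (hder : ∀ i w, ∃ q : Polynomial k, ∀ τ : k, h i (x₀, u₀ + τ • w) = τ * w i + τ ^ 2 * q.eval τ)
    {g : V × (κ → k) → k} (hg : IsPolyFun k g) (hg0 : g (x₀, u₀) ≠ 0) :
    ∃ f : V → k, IsPolyFun k f ∧ f x₀ ≠ 0 ∧ ∀ x, f x ≠ 0 → ∃ u, g (x, u) ≠ 0 ∧ ∀ i, h i (x, u) = 0 := by
  classical
  have := Fintype.ofFinite κ
  have : Infinite k := IsAlgClosed.instInfinite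
  let b := Module.finBasis k V
  let b' : Module.Basis κ k (κ → k) := Pi.basisFun k κ
  have hco : ∀ (v : V) (w : κ → k), (b.prod b').equivFun (v, w) = Sum.elim (b.equivFun v) w := by
    intro v w
    rw [equivFun_prod]
    congr 1
  choose H hH using fun i => exists_mvPoly (b.prod b') (hh i)
  obtain ⟨G, hG⟩ := exists_mvPoly (b.prod b') hg
  have hH' : ∀ i v w, evv (b.equivFun v) w (sw (H i)) = h i (v, w) := fun i v w => by
    rw [evv_sw, hH, hco]
  have hG' : ∀ v w, evv (b.equivFun v) w (sw G) = g (v, w) := fun v w => by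
    rw [evv_sw, hG, hco]
  have hjac : ∀ i j, evv (b.equivFun x₀) u₀ (pderiv j (sw (H i))) = if j = i then 1 else 0 := by
    intro i j
    obtain ⟨q, hq⟩ := hder i (Pi.single j 1)
    have h1 := sum_pderiv (x := b.equivFun x₀) (u := u₀) (w := Pi.single j 1) (P := sw (H i))
      (d := (Pi.single j 1 : κ → k) i) (q := q) (fun τ => by rw [hH', hq])
    rw [Finset.sum_eq_single j (fun l _ hl => by rw [Pi.single_eq_of_ne hl, zero_mul])
      (fun hj => (hj (Finset.mem_univ j)).elim), Pi.single_eq_same, one_mul] at h1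
    rw [h1, Pi.single_apply]
    simp only [eq_comm]
  have hdet : evv (b.equivFun x₀) u₀ (Matrix.of fun i j => pderiv i (sw (H j))).det = 1 := by
    rw [RingHom.map_det]
    have : (evv (b.equivFun x₀) u₀).mapMatrix (Matrix.of fun i j => pderiv i (sw (H j))) = 1 := by
      ext i j
      rw [RingHom.mapMatrix_apply, Matrix.map_apply, Matrix.of_apply, hjac, Matrix.one_apply]
    rw [this, Matrix.det_one]
  obtain ⟨f, hf0, hf⟩ := square (fun i => sw (H i)) (sw G) (x₀ := b.equivFun x₀) (u₀ := u₀)
    (fun i => by rw [hH', h0]) (by rw [hdet]; exact one_ne_zero) (by rw [hG']; exact hg0)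
  refine ⟨fun v => eval (b.equivFun v) f, isPolyFun_eval_coord b f, hf0, fun x hx => ?_⟩
  obtain ⟨u, hu1, hu2⟩ := hf _ hx
  exact ⟨u, by rwa [hG'] at hu1, fun i => by rw [← hH']; exact hu2 i⟩

/-- If the differential at `(x₀, w₀)` in the direction of `W` is surjective, then nearby `x` have nearby solutions. -/
theorem open_map {ι : Type} [Finite ι] {h : ι → V × W → k} (hh : ∀ i, IsPolyFun k (h i)) {x₀ : V} {w₀ : W}
    (h0 : ∀ i, h i (x₀, w₀) = 0) (D : W →ₗ[k] (ι → k)) (hD : Function.Surjective D)
    (hder : ∀ i w, ∃ q : Polynomial k, ∀ τ : k, h i (x₀, w₀ + τ • w) = τ * D w i + τ ^ 2 * q.eval τ)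
    {O : Set (V × W)} (hO : IsZOpen k O) (hm : (x₀, w₀) ∈ O) :
    ∃ U : Set V, IsZOpen k U ∧ x₀ ∈ U ∧ ∀ x ∈ U, ∃ w, (x, w) ∈ O ∧ ∀ i, h i (x, w) = 0 := by
  obtain ⟨s, hs⟩ := LinearMap.exists_rightInverse_of_surjective D (LinearMap.range_eq_top.mpr hD)
  have hs' : ∀ w, D (s w) = w := fun w => LinearMap.congr_fun hs w
  obtain ⟨g, hg, hg0, hgO⟩ := hO _ hm
  have hΦ : IsPolyMap k (fun p : V × (ι → k) => ((p.1, w₀ + s p.2) : V × W)) :=
    pm_prodMk isPolyMap_fst (pm_add (isPolyMap_const w₀) (pm_comp (isPolyMap_linear s) isPolyMap_snd))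
  obtain ⟨f, hf, hf0, hfx⟩ := open_sq (h := fun i p => h i (p.1, w₀ + s p.2)) (x₀ := x₀) (u₀ := 0)
    (fun i => pf_comp (hh i) hΦ) (fun i => by simpa using h0 i)
    (fun i w => by
      obtain ⟨q, hq⟩ := hder i (s w)
      refine ⟨q, fun τ => ?_⟩
      have := hq τ
      rw [hs'] at this
      rw [zero_add, map_smul]
      exact this) (g := fun p => g (p.1, w₀ + s p.2)) (pf_comp hg hΦ) (by simpa using hg0)
  refine ⟨{v | f v ≠ 0}, isZOpen_basic hf, hf0, fun x hx => ?_⟩
  obtain ⟨u, hu1, hu2⟩ := hfx x hx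
  exact ⟨w₀ + s u, hgO _ hu1, hu2⟩

end K434.OpenMap
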