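import Groth.Agent.Fano.K475.ConForm
import Groth.Agent.Ega2.TwistBasic
import Mathlib.Algebra.DualNumber
import Mathlib.RingTheory.MvPolynomial.EulerIdentity

/-!
# Derivations along a parametrised curve in projective space (job Q5-5 of S16526), part 1

`i₀ : P^1 ⟶ X₀`, `j₀ : X₀ ⟶ P^N` over `k`, the composite given by forms `φ_l` of degree `d`, and `q_l` forms of degree
`n`.  For `x ∈ P^1` in the preimage of the chart `D_+(T_j)` the assignment `T_l ↦ (φ_l + ε q_l) / (φ_j + ε q_j)` is a ring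
homomorphism `dch : Γ(P^N, D_+(T_j)) → Loc_x[ε]`:
* `fst_dch`: its value part is the restriction of functions to the curve;
* `dch_dl`: `dch (G / T_j^e) (φ_j + ε q_j)^e = G(φ) + ε ∑ q_l ∂_l G(φ)`;
* `exists_sec`: for `y` vanishing on the curve the `ε`-part of `dch y` is a section of `O(n - d)`.
-/

set_option autoImplicit false
universe u

open CategoryTheory AlgebraicGeometry Limits TopologicalSpace Opposite

namespace K434.Der

open LefPen Groth.Agent.Fdesc.LocGen Groth.Agent.Lefpen.H705.HypIdeal Groth.Agent.Lefpen.H705.SecIdeal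
open Groth.Agent.Lefpen.H705.ChartPoly Groth.Agent.Sga5
open K390.PnSec K330.FormSec Groth.Agent.Ega2.H295.PnCoord K693.ConFam K693.ModSec K475.ConForm

variable {k : Type u} [Field k] {N : ℕ}

section Alg

variable {d n : ℕ} (φ : Fin (N + 1) → Form 1 k d) (q : Fin (N + 1) → Form 1 k n)

theorem sb_C (a : k) : sb φ (MvPolynomial.C a) = MvPolynomial.C a := MvPolynomial.eval₂_C _ _ _

theorem sb_X (l : Fin (N + 1)) : sb φ (MvPolynomial.X l) = (φ l).1 := MvPolynomial.eval₂_X _ _ _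

theorem sb_add (G G' : MvPolynomial (Fin (N + 1)) k) : sb φ (G + G') = sb φ G + sb φ G' :=
  MvPolynomial.eval₂_add _ _

theorem sb_mul (G G' : MvPolynomial (Fin (N + 1)) k) : sb φ (G * G') = sb φ G * sb φ G' :=
  MvPolynomial.eval₂_mul _ _

/-- `∑ q_l ∂_l G (φ)` -/
noncomputable def DD (G : MvPolynomial (Fin (N + 1)) k) : MvPolynomial (Fin 2) k :=
  ∑ l, (q l).1 * sb φ (MvPolynomial.pderiv l G)

theorem DD_C (a : k) : DD φ q (MvPolynomial.C a) = 0 := by
  rw [DD]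
  refine Finset.sum_eq_zero fun l _ => ?_
  rw [MvPolynomial.pderiv_C, ← MvPolynomial.C_0, sb_C, MvPolynomial.C_0, mul_zero]

theorem DD_add (G G' : MvPolynomial (Fin (N + 1)) k) : DD φ q (G + G') = DD φ q G + DD φ q G' := by
  rw [DD, DD, DD, ← Finset.sum_add_distrib]
  refine Finset.sum_congr rfl fun l _ => ?_
  rw [map_add, sb_add, mul_add]

theorem DD_mul_X (G : MvPolynomial (Fin (N + 1)) k) (m : Fin (N + 1)) :
    DD φ q (G * MvPolynomial.X m) = DD φ q G * (φ m).1 + sb φ G * (q m).1 := by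
  classical
  have h1 : ∀ l, (q l).1 * sb φ (MvPolynomial.pderiv l (G * MvPolynomial.X m)) =
      ((q l).1 * sb φ (MvPolynomial.pderiv l G)) * (φ m).1 + if l = m then sb φ G * (q m).1 else 0 := by
    intro l
    rw [Derivation.leibniz, smul_eq_mul, smul_eq_mul, sb_add, sb_mul, sb_mul, sb_X, MvPolynomial.pderiv_X]
    by_cases hl : l = m
    · subst hl
      rw [Pi.single_eq_same, ← MvPolynomial.C_1, sb_C, if_pos rfl, MvPolynomial.C_1]
      ring
    · rw [Pi.single_eq_of_ne (Ne.symm hl), ← MvPolynomial.C_0, sb_C, if_neg hl, MvPolynomial.C_0]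
      ring
  rw [DD, Finset.sum_congr rfl fun l _ => h1 l, Finset.sum_add_distrib, ← Finset.sum_mul,
    Finset.sum_ite_eq' Finset.univ m, if_pos (Finset.mem_univ m)]
  rfl

theorem sb_mem {e : ℕ} {G : MvPolynomial (Fin (N + 1)) k} (hG : G.IsHomogeneous e) :
    (sb φ G).IsHomogeneous (d * e) := by
  have h := hG.eval₂ (MvPolynomial.C : k →+* MvPolynomial (Fin 2) k) (fun l => (φ l).1) (n := d)
    (fun r => MvPolynomial.isHomogeneous_C _ r) (fun l => (MvPolynomial.mem_homogeneousSubmodule _ _).1 (φ l).2)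
  exact h

theorem DD_mem {a : ℕ} (hna : d + a = n) {e : ℕ} {G : MvPolynomial (Fin (N + 1)) k} (hG : G.IsHomogeneous e) :
    (DD φ q G).IsHomogeneous (d * e + a) := by
  rcases Nat.eq_zero_or_pos e with rfl | he
  · have h1 := hG
    rw [← MvPolynomial.totalDegree_zero_iff_isHomogeneous, MvPolynomial.totalDegree_eq_zero_iff_eq_C] at h1
    rw [h1, DD_C]
    exact MvPolynomial.isHomogeneous_zero _ _ _
  · refine MvPolynomial.IsHomogeneous.sum _ _ _ fun l _ => ?_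
    have h1 : (MvPolynomial.pderiv l G).IsHomogeneous (e - 1) := hG.pderiv
    have h2 := ((MvPolynomial.mem_homogeneousSubmodule _ _).1 (q l).2).mul (sb_mem φ h1)
    have h3 : n + d * (e - 1) = d * e + a := by
      obtain ⟨e', rfl⟩ : ∃ e', e = e' + 1 := ⟨e - 1, by omega⟩
      rw [Nat.add_sub_cancel, ← hna, Nat.mul_add, Nat.mul_one]
      omega
    rwa [h3] at h2

end Alg

section Dual

variable {d n : ℕ} (φ : Fin (N + 1) → Form 1 k d) (q : Fin (N + 1) → Form 1 k n)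
  {U : (CohB1.ProjSpace 1 k).Opens} (x : U)

/-- The coordinates of the tangent vector. -/
noncomputable def gam (l : Fin (N + 1)) : DualNumber (Loc x) :=
  TrivSqZeroExt.inl (al x (φ l).1) + TrivSqZeroExt.inr (al x (q l).1)

theorem fst_gam (l : Fin (N + 1)) : (gam φ q x l).fst = al x (φ l).1 := by
  rw [gam, TrivSqZeroExt.fst_add, TrivSqZeroExt.fst_inl, TrivSqZeroExt.fst_inr, add_zero]

theorem snd_gam (l : Fin (N + 1)) : (gam φ q x l).snd = al x (q l).1 := by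
  rw [gam, TrivSqZeroExt.snd_add, TrivSqZeroExt.snd_inl, TrivSqZeroExt.snd_inr, zero_add]

/-- The constants. -/
noncomputable def kc : k →+* DualNumber (Loc x) :=
  (TrivSqZeroExt.inlHom (Loc x) (Loc x)).comp ((al x).comp MvPolynomial.C)

theorem fst_kc (a : k) : (kc x a).fst = al x (MvPolynomial.C a) := TrivSqZeroExt.fst_inl _ _

theorem snd_kc (a : k) : (kc x a).snd = 0 := TrivSqZeroExt.snd_inl _ _

/-- `G ↦ G(φ + ε q)` -/
noncomputable def EE : MvPolynomial (Fin (N + 1)) k →+* DualNumber (Loc x) :=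
  MvPolynomial.eval₂Hom (kc x) (gam φ q x)

theorem EE_C (a : k) : EE φ q x (MvPolynomial.C a) = kc x a := MvPolynomial.eval₂Hom_C _ _ _

theorem EE_X (l : Fin (N + 1)) : EE φ q x (MvPolynomial.X l) = gam φ q x l := MvPolynomial.eval₂Hom_X' _ _ _

theorem fst_EE (G : MvPolynomial (Fin (N + 1)) k) : (EE φ q x G).fst = al x (sb φ G) := by
  induction G using MvPolynomial.induction_on with
  | C a => rw [EE_C, fst_kc, sb_C]
  | add p r hp hr => rw [map_add, TrivSqZeroExt.fst_add, hp, hr, sb_add, map_add]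
  | mul_X p m hp => rw [map_mul, TrivSqZeroExt.fst_mul, hp, EE_X, fst_gam, sb_mul, sb_X, map_mul]

theorem snd_EE (G : MvPolynomial (Fin (N + 1)) k) : (EE φ q x G).snd = al x (DD φ q G) := by
  induction G using MvPolynomial.induction_on with
  | C a => rw [EE_C, snd_kc, DD_C, map_zero]
  | add p r hp hr => rw [map_add, TrivSqZeroExt.snd_add, hp, hr, DD_add, map_add]
  | mul_X p m hp =>
    rw [map_mul, TrivSqZeroExt.snd_mul, hp, EE_X, fst_gam, snd_gam, fst_EE, DD_mul_X, map_add, map_mul, map_mul,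
      smul_eq_mul, MulOpposite.smul_eq_mul_unop, MulOpposite.unop_op]
    ring

end Dual

section Curve

variable {X₀ : Scheme.{u}} (i₀ : CohB1.ProjSpace 1 k ⟶ X₀) (j₀ : X₀ ⟶ CohB1.ProjSpace N k)
  {d n : ℕ} (φ : Fin (N + 1) → Form 1 k d) (q : Fin (N + 1) → Form 1 k n)
  (hφ : GivenBy (i₀ ≫ j₀) (Twist.twistProjSpace 1 k (d : ℤ)) (fun l => glob (φ l)))
  (hr : (i₀ ≫ j₀) ≫ CohB1.ProjSpace.toSpec N k = CohB1.ProjSpace.toSpec 1 k)

include hφ in
/-- The form `φ_j` generates `O(d)` over the preimage of the chart `D_+(T_j)`. -/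
theorem notMem_ideal (j : Fin (N + 1)) (x : VV i₀ j₀ j) :
    (φ j).1 ∉ (ProjectiveSpectrum.asHomogeneousIdeal (pp x)) := by
  intro h0
  have h3 := hφ.iSup_genLocus
  have h4 : x.1 ∈ ⨆ i, CohB1.genLocus (Twist.twistProjSpace 1 k (d : ℤ)) (homOf (glob (φ i))) := by
    rw [h3]; trivial
  obtain ⟨l, hl⟩ := Opens.mem_iSup.1 h4
  obtain ⟨U, hxU, hU⟩ := (mem_genLocus_iff (homOf (glob (φ l))) x.1).1 hl
  rw [sec_homOf] at hU
  have hx : x.1 ∈ ⨆ m : Fin 2, chart 1 k m := by rw [iSup_chart]; trivial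
  obtain ⟨m, hm⟩ := Opens.mem_iSup.1 hx
  have hpow : (MvPolynomial.X m : MvPolynomial (Fin 2) k) ^ d ∈ CohB1.polyGrading 1 k d := by
    have h := (MvPolynomial.isHomogeneous_X k m).pow d
    rw [one_mul] at h
    exact (MvPolynomial.mem_homogeneousSubmodule _ _).2 h
  obtain ⟨c, hc⟩ := hU.exists_eq (Groth.Agent.Fdesc.LocGen.res _ (le_top : U ≤ ⊤)
    (glob (⟨MvPolynomial.X m ^ d, hpow⟩ : Form 1 k d)))
  have h5 := congrArg (fun s => tv s (⟨x.1, hxU⟩ : U)) hc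
  have h6 : al x (MvPolynomial.X m ^ d) = evx (⟨x.1, hxU⟩ : U) c * al x (φ l).1 := by
    have h7 : ∀ G : Form 1 k d, tv (Groth.Agent.Fdesc.LocGen.res (Twist.twistProjSpace 1 k (d : ℤ)) (le_top : U ≤ ⊤)
        (glob G)) ⟨x.1, hxU⟩ = al x G.1 := fun G => tv_glob G ⟨x.1, trivial⟩
    rw [tv_smul', h7, h7] at h5
    exact h5
  have h8 : IsUnit (al x (φ j).1) := by
    have h9 : IsUnit (al x (MvPolynomial.X m ^ d)) :=
      IsLocalization.map_units (M := (ProjectiveSpectrum.asHomogeneousIdeal (pp x)).toIdeal.primeCompl) (Loc x)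
        ⟨_, pow_mem_primeCompl m ⟨x.1, hm⟩ d⟩
    rw [h6, ← chi_X_mul i₀ j₀ φ hφ j l x] at h9
    exact isUnit_of_mul_isUnit_right (isUnit_of_mul_isUnit_right h9)
  have h10 := (IsLocalization.AtPrime.isUnit_to_map_iff (Loc x)
    (ProjectiveSpectrum.asHomogeneousIdeal (pp x)).toIdeal (φ j).1).1 h8
  exact h10 h0

include hφ in
theorem isUnit_al (j : Fin (N + 1)) (x : VV i₀ j₀ j) : IsUnit (al x (φ j).1) :=
  IsLocalization.map_units (M := (ProjectiveSpectrum.asHomogeneousIdeal (pp x)).toIdeal.primeCompl) (Loc x)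
    ⟨_, notMem_ideal i₀ j₀ φ hφ j x⟩

include hφ in
theorem isUnit_gam (j : Fin (N + 1)) (x : VV i₀ j₀ j) : IsUnit (gam φ q x j) := by
  rw [TrivSqZeroExt.isUnit_iff_isUnit_fst, fst_gam]
  exact isUnit_al i₀ j₀ φ hφ j x

/-- The inverse of the `j`-th coordinate. -/
noncomputable def gi (j : Fin (N + 1)) (x : VV i₀ j₀ j) : DualNumber (Loc x) :=
  ((isUnit_gam i₀ j₀ φ q hφ j x).unit⁻¹ : (DualNumber (Loc x))ˣ)

theorem gam_mul_gi (j : Fin (N + 1)) (x : VV i₀ j₀ j) : gam φ q x j * gi i₀ j₀ φ q hφ j x = 1 :=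
  (isUnit_gam i₀ j₀ φ q hφ j x).mul_val_inv

/-- The tangent vector as a ring homomorphism on the functions on the chart. -/
noncomputable def dch (j : Fin (N + 1)) (x : VV i₀ j₀ j) :
    Γ(CohB1.ProjSpace N k, chart N k j) →+* DualNumber (Loc x) :=
  (MvPolynomial.eval₂Hom (kc x) (fun m => gi i₀ j₀ φ q hφ j x * gam φ q x (j.succAbove m))).comp
    (RingEquiv.ofBijective _ (polyToChart_bijective (r := N) (k := k) j)).symm.toRingHom

theorem dch_poly (j : Fin (N + 1)) (x : VV i₀ j₀ j) (p : MvPolynomial (Fin N) k) :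
    dch i₀ j₀ φ q hφ j x (polyToChart j p) =
      MvPolynomial.eval₂Hom (kc x) (fun m => gi i₀ j₀ φ q hφ j x * gam φ q x (j.succAbove m)) p := by
  have h1 : (RingEquiv.ofBijective _ (polyToChart_bijective (r := N) (k := k) j)).symm (polyToChart j p) = p :=
    (RingEquiv.ofBijective _ (polyToChart_bijective (r := N) (k := k) j)).symm_apply_apply p
  exact congrArg (MvPolynomial.eval₂Hom (kc x) (fun m => gi i₀ j₀ φ q hφ j x * gam φ q x (j.succAbove m))) h1

theorem dch_C (j : Fin (N + 1)) (x : VV i₀ j₀ j) (a : k) :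
    dch i₀ j₀ φ q hφ j x (dl k j (MvPolynomial.C a)) = kc x a := by
  rw [dl, RingHom.comp_apply, dch_poly, ProjChart.dehom_C, MvPolynomial.eval₂Hom_C]

theorem dch_X (j : Fin (N + 1)) (x : VV i₀ j₀ j) (l : Fin (N + 1)) :
    dch i₀ j₀ φ q hφ j x (dl k j (MvPolynomial.X l)) = gi i₀ j₀ φ q hφ j x * gam φ q x l := by
  rw [dl, RingHom.comp_apply, dch_poly]
  rcases eq_or_ne l j with rfl | h
  · rw [ProjChart.dehom_X_self, map_one, mul_comm, gam_mul_gi]
  · obtain ⟨m, rfl⟩ := Fin.exists_succAbove_eq h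
    rw [ProjChart.dehom_X, MvPolynomial.eval₂Hom_X']

theorem dch_hom (j : Fin (N + 1)) (x : VV i₀ j₀ j) {e : ℕ} {G : MvPolynomial (Fin (N + 1)) k}
    (hG : G.IsHomogeneous e) :
    dch i₀ j₀ φ q hφ j x (dl k j G) * gam φ q x j ^ e = EE φ q x G := by
  have h1 : (dch i₀ j₀ φ q hφ j x).comp (dl k j) = MvPolynomial.eval₂Hom (kc x)
      (fun l => gi i₀ j₀ φ q hφ j x * gam φ q x l) := by
    apply MvPolynomial.ringHom_ext
    · intro a
      rw [MvPolynomial.eval₂Hom_C]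
      exact dch_C i₀ j₀ φ q hφ j x a
    · intro l
      rw [MvPolynomial.eval₂Hom_X']
      exact dch_X i₀ j₀ φ q hφ j x l
  have h2 : dch i₀ j₀ φ q hφ j x (dl k j G) = MvPolynomial.eval₂ (kc x)
      (fun l => gi i₀ j₀ φ q hφ j x * gam φ q x l) G := congrArg (fun ψ => ψ G) h1
  rw [h2, K475.PtCoord.eval₂_smul_of_homogeneous _ _ _ hG, mul_right_comm, ← mul_pow, mul_comm (gi _ _ _ _ _ _ _),
    gam_mul_gi, one_pow, one_mul]
  rfl

include hr in
theorem fst_dch (j : Fin (N + 1)) (x : VV i₀ j₀ j) (y : Γ(CohB1.ProjSpace N k, chart N k j)) :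
    (dch i₀ j₀ φ q hφ j x y).fst = evx x (rho i₀ j₀ (chart N k j) y) := by
  obtain ⟨e, G, rfl⟩ := exists_form j y
  have hG : G.1.IsHomogeneous e := (MvPolynomial.mem_homogeneousSubmodule _ _).1 G.2
  have h1 := congrArg TrivSqZeroExt.fst (dch_hom i₀ j₀ φ q hφ j x hG)
  rw [TrivSqZeroExt.fst_mul, TrivSqZeroExt.fst_pow, fst_gam, fst_EE, ← chi_hom i₀ j₀ φ hφ hr j x hG] at h1
  exact mul_right_cancel₀ (pow_ne_zero _ (al_ne_zero i₀ j₀ φ hφ j x)) h1

include hr in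
theorem snd_dch_mul {j : Fin (N + 1)} (x : VV i₀ j₀ j) (r : Γ(CohB1.ProjSpace N k, chart N k j))
    {y : Γ(CohB1.ProjSpace N k, chart N k j)} (hy : rho i₀ j₀ (chart N k j) y = 0) :
    (dch i₀ j₀ φ q hφ j x (r * y)).snd = evx x (rho i₀ j₀ (chart N k j) r) * (dch i₀ j₀ φ q hφ j x y).snd := by
  rw [map_mul, TrivSqZeroExt.snd_mul, fst_dch i₀ j₀ φ q hφ hr j x y, hy, map_zero,
    fst_dch i₀ j₀ φ q hφ hr j x r, MulOpposite.smul_eq_mul_unop, MulOpposite.unop_op, mul_zero, add_zero, smul_eq_mul]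

include hr in
theorem snd_dch_dl {j : Fin (N + 1)} (x : VV i₀ j₀ j) {e : ℕ} {G : MvPolynomial (Fin (N + 1)) k}
    (hG : G.IsHomogeneous e) (h0 : rho i₀ j₀ (chart N k j) (dl k j G) = 0) :
    (dch i₀ j₀ φ q hφ j x (dl k j G)).snd * al x (φ j).1 ^ e = al x (DD φ q G) := by
  have h1 := congrArg TrivSqZeroExt.snd (dch_hom i₀ j₀ φ q hφ j x hG)
  rw [TrivSqZeroExt.snd_mul, fst_dch i₀ j₀ φ q hφ hr j x, h0, map_zero, zero_smul, zero_add, snd_EE,
    TrivSqZeroExt.fst_pow, fst_gam, MulOpposite.smul_eq_mul_unop, MulOpposite.unop_op] at h1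
  exact h1

include hr in
/-- The `ε`-part is a section of `O(a)`, `a = n - d`. -/
theorem exists_sec {a : ℕ} (hna : d + a = n) (j : Fin (N + 1)) (y : Γ(CohB1.ProjSpace N k, chart N k j))
    (hy : rho i₀ j₀ (chart N k j) y = 0) :
    ∃ t : Γ(Twist.twistProjSpace 1 k (a : ℤ), VV i₀ j₀ j), ∀ x : VV i₀ j₀ j,
      tv t x = (dch i₀ j₀ φ q hφ j x y).snd := by
  obtain ⟨e, G, rfl⟩ := exists_form j y
  have hG : G.1.IsHomogeneous e := (MvPolynomial.mem_homogeneousSubmodule _ _).1 G.2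
  have hpow : (φ j).1 ^ e ∈ CohB1.polyGrading 1 k (d * e) :=
    (MvPolynomial.mem_homogeneousSubmodule _ _).2
      (((MvPolynomial.mem_homogeneousSubmodule _ _).1 (φ j).2).pow e)
  have hP : DD φ q G.1 ∈ CohB1.polyGrading 1 k (d * e + a) :=
    (MvPolynomial.mem_homogeneousSubmodule _ _).2 (DD_mem φ q hna hG)
  have hU : ∀ x ∈ VV i₀ j₀ j, (φ j).1 ^ e ∉ x.asHomogeneousIdeal := fun x hx h =>
    notMem_ideal i₀ j₀ φ hφ j ⟨x, hx⟩ (x.isPrime.mem_of_pow_mem _ h)
  let t : Γ(Twist.twistProjSpace 1 k (a : ℤ), VV i₀ j₀ j) :=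
    Groth.Agent.Ega2.TwistBasic.fracSec (𝒜 := CohB1.polyGrading 1 k) (a : ℤ)
      (⟨_, hP⟩ : CohB1.polyGrading 1 k (d * e + a)) (⟨_, hpow⟩ : CohB1.polyGrading 1 k (d * e)) (by push_cast; ring)
      (VV i₀ j₀ j) hU
  refine ⟨t, fun x => ?_⟩
  have h1 : tv t x = Localization.mk (DD φ q G.1) ⟨(φ j).1 ^ e, hU x.1 x.2⟩ := rfl
  refine mul_right_cancel₀ (pow_ne_zero e (al_ne_zero i₀ j₀ φ hφ j x)) ?_
  rw [snd_dch_dl i₀ j₀ φ q hφ hr x hG hy, h1, ← map_pow]
  exact mk_mul_algebraMap _ (DD φ q G.1) ⟨(φ j).1 ^ e, hU x.1 x.2⟩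

end Curve

end K434.Der
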