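import Groth.Agent.Fano.K434.DerDual
import Groth.Agent.Fano.K475.ConHom
import Groth.Agent.CohqB.HomSheafQCoh

/-!
# Vector fields along a curve give homomorphisms out of the conormal sheaf (job Q5-5 of S16526)

`exists_hom`: `i₀ : P^1 ⟶ X₀`, `j₀ : X₀ ⟶ P^N` closed immersions, the composite given by forms `φ_l` of degree `d`; forms
`q_l` of degree `d + a` whose derivation kills the functions vanishing on `X₀` give `θ : conormal i₀ ⟶ O(a)` with
`θ (G / T_j^e) φ_j^e = ∑ q_l ∂_l G(φ)`.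

`exists_der`: the case of a cubic hypersurface (`Fano.K496.PlanQ5.exists_der`).
-/

set_option autoImplicit false
universe u

open CategoryTheory AlgebraicGeometry Limits TopologicalSpace Opposite

namespace K434.Der

open LefPen Groth.Agent.Fdesc.LocGen Groth.Agent.Lefpen.H705.HypIdeal Groth.Agent.Lefpen.H705.SecIdeal
open Groth.Agent.Lefpen.H705.ChartPoly Groth.Agent.Sga5 Groth.Agent.Fano.K714.Rat
open K390.PnSec K330.FormSec Groth.Agent.Ega2.H295.PnCoord K693.ConFam K693.ModSec K475.ConForm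
open Groth.Agent.CohqB.HomSheaf

variable {k : Type u} [Field k] {N : ℕ}

section Charts

/-- `T_l / T_j` on the chart `D_+(T_j)`. -/
theorem ratio_eq (j l : Fin (N + 1)) : (ratio j l : Γ(CohB1.ProjSpace N k, chart N k j)) = dl k j (MvPolynomial.X l) :=
  (dl_form j (⟨MvPolynomial.X l, X_mem N k l⟩ : Form N k 1)).symm

theorem ro_dl {e : ℕ} {G : MvPolynomial (Fin (N + 1)) k} (hG : G.IsHomogeneous e) (j l : Fin (N + 1))
    {W : (CohB1.ProjSpace N k).Opens} (hj : W ≤ chart N k j) (hl : W ≤ chart N k l) :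
    ro _ hj (dl k j G) = ro _ hj (dl k j (MvPolynomial.X l)) ^ e * ro _ hl (dl k l G) := by
  have h := ores_dehom (⟨G, (MvPolynomial.mem_homogeneousSubmodule _ _).2 hG⟩ : Form N k e) j l W hj hl
  rw [← dl_form, ← dl_form, ratio_eq] at h
  exact h

theorem basicOpen_dl (j l : Fin (N + 1)) :
    (CohB1.ProjSpace N k).basicOpen (dl k j (MvPolynomial.X l)) = chart N k j ⊓ chart N k l := by
  apply le_antisymm
  · refine le_inf ((CohB1.ProjSpace N k).basicOpen_le _) ?_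
    intro x hx hk
    have hxj : x ∈ chart N k j := (CohB1.ProjSpace N k).basicOpen_le _ hx
    have h1 : IsUnit (ro _ ((CohB1.ProjSpace N k).basicOpen_le (dl k j (MvPolynomial.X l)))
        (dl k j (MvPolynomial.X l))) :=
      RingedSpace.isUnit_res_basicOpen (CohB1.ProjSpace N k).toRingedSpace _
    have h2 := h1.map (evx (⟨x, hx⟩ : (CohB1.ProjSpace N k).basicOpen (dl k j (MvPolynomial.X l))))
    rw [evx_ro] at h2
    have h3 := evx_dehom j (⟨MvPolynomial.X l, X_mem N k l⟩ : Form N k 1) ⟨x, hxj⟩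
    rw [← dl_form] at h3
    have h4 : IsUnit (al (⟨x, hxj⟩ : chart N k j) (MvPolynomial.X j ^ 1)) :=
      IsLocalization.map_units
        (M := (ProjectiveSpectrum.asHomogeneousIdeal (pp (⟨x, hxj⟩ : chart N k j))).toIdeal.primeCompl) _
        ⟨_, pow_mem_primeCompl j ⟨x, hxj⟩ 1⟩
    have h5 : IsUnit (al (⟨x, hxj⟩ : chart N k j) (MvPolynomial.X l)) := by
      have h6 := h2.mul h4
      exact (congrArg IsUnit h3).mp h6
    have h7 := (IsLocalization.AtPrime.isUnit_to_map_iff (Loc (⟨x, hxj⟩ : chart N k j))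
      (ProjectiveSpectrum.asHomogeneousIdeal (pp (⟨x, hxj⟩ : chart N k j))).toIdeal (MvPolynomial.X l)).1 h5
    exact h7 hk
  · have h1 := ro_dl (k := k) (N := N) (MvPolynomial.isHomogeneous_X k j) j l
      (inf_le_left : chart N k j ⊓ chart N k l ≤ chart N k j) inf_le_right
    rw [dl_X_self, map_one, pow_one] at h1
    have h2 : IsUnit (ro _ (inf_le_left : chart N k j ⊓ chart N k l ≤ chart N k j) (dl k j (MvPolynomial.X l))) :=
      IsUnit.of_mul_eq_one _ h1.symm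
    intro x hx
    rw [Scheme.mem_basicOpen _ _ x hx.1]
    have h3 := h2.map ((CohB1.ProjSpace N k).presheaf.germ (chart N k j ⊓ chart N k l) x hx).hom
    have h4 := TopCat.Presheaf.germ_res_apply (CohB1.ProjSpace N k).presheaf
      (homOfLE (inf_le_left : chart N k j ⊓ chart N k l ≤ chart N k j)) x hx (dl k j (MvPolynomial.X l))
    exact (congrArg IsUnit h4).mp h3

theorem isAffineOpen_inf (j l : Fin (N + 1)) : IsAffineOpen (chart N k j ⊓ chart N k l) := by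
  rw [← basicOpen_dl]
  exact (isAffineOpen_chart j).basicOpen _

/-- Functions on the intersection of two charts. -/
theorem exists_form_inf (j l : Fin (N + 1)) (y : Γ(CohB1.ProjSpace N k, chart N k j ⊓ chart N k l)) :
    ∃ (m e : ℕ) (G : Form N k e), ro _ (inf_le_left : chart N k j ⊓ chart N k l ≤ chart N k j) (dl k j G.1) =
      ro _ (inf_le_left : chart N k j ⊓ chart N k l ≤ chart N k j) (dl k j (MvPolynomial.X l)) ^ m * y := by
  have key : ∀ (D : (CohB1.ProjSpace N k).Opens) (hD : D = (CohB1.ProjSpace N k).basicOpen (dl k j (MvPolynomial.X l)))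
      (hle : D ≤ chart N k j) (y : Γ(CohB1.ProjSpace N k, D)),
      ∃ (m e : ℕ) (G : Form N k e), ro _ hle (dl k j G.1) = ro _ hle (dl k j (MvPolynomial.X l)) ^ m * y := by
    rintro D rfl hle y
    have := (isAffineOpen_chart (k := k) (r := N) j).isLocalization_basicOpen (dl k j (MvPolynomial.X l))
    obtain ⟨⟨z, ⟨_, m, rfl⟩⟩, hz⟩ := IsLocalization.surj (Submonoid.powers (dl k j (MvPolynomial.X l))) y
    obtain ⟨e, G, rfl⟩ := exists_form j z
    refine ⟨m, e, G, ?_⟩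
    have h1 : ro _ hle (dl k j G.1) = y * ro _ hle (dl k j (MvPolynomial.X l) ^ m) := hz.symm
    rw [h1, map_pow, mul_comm]
  exact key _ (basicOpen_dl j l).symm _ y

end Charts

section Curve

variable {X₀ : Scheme.{u}} (i₀ : CohB1.ProjSpace 1 k ⟶ X₀) (j₀ : X₀ ⟶ CohB1.ProjSpace N k)
  {d n : ℕ} (φ : Fin (N + 1) → Form 1 k d) (q : Fin (N + 1) → Form 1 k n)
  (hφ : GivenBy (i₀ ≫ j₀) (Twist.twistProjSpace 1 k (d : ℤ)) (fun l => glob (φ l)))
  (hr : (i₀ ≫ j₀) ≫ CohB1.ProjSpace.toSpec N k = CohB1.ProjSpace.toSpec 1 k)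

include hr in
theorem exists_psi {a : ℕ} (hna : d + a = n) (j : Fin (N + 1)) :
    ∃ ψ : Γ(CohB1.ProjSpace N k, chart N k j) → Γ(Twist.twistProjSpace 1 k (a : ℤ), VV i₀ j₀ j),
      ∀ y, rho i₀ j₀ (chart N k j) y = 0 → ∀ x : VV i₀ j₀ j, tv (ψ y) x = (dch i₀ j₀ φ q hφ j x y).snd := by
  classical
  have h : ∀ y, ∃ t : Γ(Twist.twistProjSpace 1 k (a : ℤ), VV i₀ j₀ j), rho i₀ j₀ (chart N k j) y = 0 →
      ∀ x : VV i₀ j₀ j, tv t x = (dch i₀ j₀ φ q hφ j x y).snd := by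
    intro y
    by_cases hy : rho i₀ j₀ (chart N k j) y = 0
    · obtain ⟨t, ht⟩ := exists_sec i₀ j₀ φ q hφ hr hna j y hy
      exact ⟨t, fun _ => ht⟩
    · exact ⟨0, fun h => (hy h).elim⟩
  choose ψ hψ using h
  exact ⟨ψ, hψ⟩

variable [IsClosedImmersion i₀] [IsClosedImmersion j₀]

include hr in
/-- The section over the preimage of a chart of the internal Hom. -/
theorem exists_local {a : ℕ} (hna : d + a = n)
    (hz : ∀ (j : Fin (N + 1)) (x : VV i₀ j₀ j) (y : Γ(CohB1.ProjSpace N k, chart N k j)),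
      j₀.app (chart N k j) y = 0 → (dch i₀ j₀ φ q hφ j x y).snd = 0) (j : Fin (N + 1)) :
    ∃ s : Γ(homSheaf (Omega.conormal i₀) (Twist.twistProjSpace 1 k (a : ℤ)), VV i₀ j₀ j),
      ∀ y, rho i₀ j₀ (chart N k j) y = 0 → ∀ x : VV i₀ j₀ j,
        tv (comp s (VV i₀ j₀ j) le_rfl (cl i₀ j₀ (chart N k j) y)) x = (dch i₀ j₀ φ q hφ j x y).snd := by
  obtain ⟨ψ, hψ⟩ := exists_psi i₀ j₀ φ q hφ hr hna j
  have hU : IsAffineOpen (VV i₀ j₀ j) := ((isAffineOpen_chart j).preimage j₀).preimage i₀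
  obtain ⟨L, hL⟩ := exists_lin i₀ j₀ (isAffineOpen_chart j) (G := Twist.twistProjSpace 1 k (a : ℤ)) ψ
    (fun y z hy hz' => by
      refine tv_ext fun x => ?_
      have h1 := hψ (y + z) (by rw [map_add, hy, hz', add_zero]) x
      have h2 : tv (ψ y + ψ z) x = tv (ψ y) x + tv (ψ z) x := rfl
      refine h1.trans (Eq.trans ?_ h2.symm)
      rw [hψ y hy, hψ z hz', map_add, TrivSqZeroExt.snd_add])
    (fun r y hy => by
      refine tv_ext fun x => ?_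
      have h1 := hψ (r * y) (by rw [map_mul, hy, mul_zero]) x
      have h2 : tv (rho i₀ j₀ (chart N k j) r • ψ y) x = evx x (rho i₀ j₀ (chart N k j) r) * tv (ψ y) x :=
        tv_smul' _ _ _
      refine h1.trans (Eq.trans ?_ h2.symm)
      rw [hψ y hy, snd_dch_mul i₀ j₀ φ q hφ hr x r hy])
    (fun y hy => by
      refine tv_ext fun x => ?_
      have h0 : rho i₀ j₀ (chart N k j) y = 0 := by rw [rho_apply, hy, map_zero]
      exact (hψ y h0 x).trans (hz j x y hy))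
  obtain ⟨s, hs⟩ := exists_comp_eq (Groth.Agent.Dual.H366.ConSec.isQCoh_conormal i₀) hU
    (N := Twist.twistProjSpace 1 k (a : ℤ)) L
  refine ⟨s, fun y hy x => ?_⟩
  have h1 : comp s (VV i₀ j₀ j) le_rfl (cl i₀ j₀ (chart N k j) y) = L (cl i₀ j₀ (chart N k j) y) :=
    congrArg (fun f => f (cl i₀ j₀ (chart N k j) y)) hs
  rw [h1, hL y hy]
  exact hψ y hy x

omit [IsClosedImmersion j₀] in
theorem tv_comp_ro {a : ℕ} {j : Fin (N + 1)}
    {s : Γ(homSheaf (Omega.conormal i₀) (Twist.twistProjSpace 1 k (a : ℤ)), VV i₀ j₀ j)}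
    (hs : ∀ y, rho i₀ j₀ (chart N k j) y = 0 → ∀ x : VV i₀ j₀ j,
      tv (comp s (VV i₀ j₀ j) le_rfl (cl i₀ j₀ (chart N k j) y)) x = (dch i₀ j₀ φ q hφ j x y).snd)
    {W : (CohB1.ProjSpace N k).Opens} (hW : W ≤ chart N k j) (y : Γ(CohB1.ProjSpace N k, chart N k j))
    (hy : rho i₀ j₀ (chart N k j) y = 0) (x : CohB1.ProjSpace 1 k) (hx : x ∈ i₀ ⁻¹ᵁ j₀ ⁻¹ᵁ W) :
    tv (comp s (i₀ ⁻¹ᵁ j₀ ⁻¹ᵁ W) (i₀.preimage_mono (j₀.preimage_mono hW)) (cl i₀ j₀ W (ro _ hW y))) ⟨x, hx⟩ =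
      (dch i₀ j₀ φ q hφ j ⟨x, i₀.preimage_mono (j₀.preimage_mono hW) hx⟩ y).snd := by
  rw [cl_ro i₀ j₀ hW hy]
  have h1 := comp_map s (le_refl (VV i₀ j₀ j)) (i₀.preimage_mono (j₀.preimage_mono hW))
    (cl i₀ j₀ (chart N k j) y)
  have h2 := congrArg (fun t => tv t (⟨x, hx⟩ : (i₀ ⁻¹ᵁ j₀ ⁻¹ᵁ W : (CohB1.ProjSpace 1 k).Opens))) h1
  exact h2.trans (hs y hy ⟨x, i₀.preimage_mono (j₀.preimage_mono hW) hx⟩)

omit [IsClosedImmersion j₀] in
theorem tv_comp_mul {a : ℕ} {V : (CohB1.ProjSpace 1 k).Opens}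
    (s : Γ(homSheaf (Omega.conormal i₀) (Twist.twistProjSpace 1 k (a : ℤ)), V))
    {W : (CohB1.ProjSpace N k).Opens} (hW : i₀ ⁻¹ᵁ j₀ ⁻¹ᵁ W ≤ V) (r y : Γ(CohB1.ProjSpace N k, W))
    (hy : rho i₀ j₀ W y = 0) (x : (i₀ ⁻¹ᵁ j₀ ⁻¹ᵁ W : (CohB1.ProjSpace 1 k).Opens)) :
    tv (comp s (i₀ ⁻¹ᵁ j₀ ⁻¹ᵁ W) hW (cl i₀ j₀ W (r * y))) x =
      evx x (rho i₀ j₀ W r) * tv (comp s (i₀ ⁻¹ᵁ j₀ ⁻¹ᵁ W) hW (cl i₀ j₀ W y)) x := by
  rw [cl_mul i₀ j₀ r hy]
  have h1 := (comp s (i₀ ⁻¹ᵁ j₀ ⁻¹ᵁ W) hW).map_smul (rho i₀ j₀ W r) (cl i₀ j₀ W y)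
  exact (congrArg (fun t => tv t x) h1).trans (tv_smul' _ _ _)

omit [IsClosedImmersion j₀] in
include hr in
/-- The local homomorphisms agree on the intersections. -/
theorem comp_eq {a : ℕ} (j l : Fin (N + 1))
    {s : Γ(homSheaf (Omega.conormal i₀) (Twist.twistProjSpace 1 k (a : ℤ)), VV i₀ j₀ j)}
    (hs : ∀ y, rho i₀ j₀ (chart N k j) y = 0 → ∀ x : VV i₀ j₀ j,
      tv (comp s (VV i₀ j₀ j) le_rfl (cl i₀ j₀ (chart N k j) y)) x = (dch i₀ j₀ φ q hφ j x y).snd)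
    {s' : Γ(homSheaf (Omega.conormal i₀) (Twist.twistProjSpace 1 k (a : ℤ)), VV i₀ j₀ l)}
    (hs' : ∀ y, rho i₀ j₀ (chart N k l) y = 0 → ∀ x : VV i₀ j₀ l,
      tv (comp s' (VV i₀ j₀ l) le_rfl (cl i₀ j₀ (chart N k l) y)) x = (dch i₀ j₀ φ q hφ l x y).snd)
    (y : Γ(CohB1.ProjSpace N k, chart N k j ⊓ chart N k l))
    (hy : rho i₀ j₀ (chart N k j ⊓ chart N k l) y = 0) :
    comp s (i₀ ⁻¹ᵁ j₀ ⁻¹ᵁ (chart N k j ⊓ chart N k l)) (i₀.preimage_mono (j₀.preimage_mono inf_le_left))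
      (cl i₀ j₀ (chart N k j ⊓ chart N k l) y) =
    comp s' (i₀ ⁻¹ᵁ j₀ ⁻¹ᵁ (chart N k j ⊓ chart N k l)) (i₀.preimage_mono (j₀.preimage_mono inf_le_right))
      (cl i₀ j₀ (chart N k j ⊓ chart N k l) y) := by
  refine tv_ext ?_
  rintro ⟨x, hx⟩
  have hj : x ∈ VV i₀ j₀ j := hx.1
  have hl : x ∈ VV i₀ j₀ l := hx.2
  obtain ⟨m, e, G, hG⟩ := exists_form_inf j l y
  have hGh : G.1.IsHomogeneous e := (MvPolynomial.mem_homogeneousSubmodule _ _).1 G.2
  -- the value of the ratio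
  have hc : evx (⟨x, hx⟩ : (i₀ ⁻¹ᵁ j₀ ⁻¹ᵁ (chart N k j ⊓ chart N k l) : (CohB1.ProjSpace 1 k).Opens))
      (rho i₀ j₀ (chart N k j ⊓ chart N k l) (ro _ inf_le_left (dl k j (MvPolynomial.X l)))) =
      chi i₀ j₀ j ⟨x, hj⟩ (MvPolynomial.X l) := by
    rw [rho_ro i₀ j₀ (inf_le_left : chart N k j ⊓ chart N k l ≤ chart N k j)]
    rfl
  have hc1 := chi_X_mul i₀ j₀ φ hφ j l ⟨x, hj⟩
  have hφj := al_ne_zero i₀ j₀ φ hφ j ⟨x, hj⟩
  have hφl := al_ne_zero i₀ j₀ φ hφ l ⟨x, hl⟩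
  have hc0 : chi i₀ j₀ j ⟨x, hj⟩ (MvPolynomial.X l) ≠ 0 := by
    intro h
    rw [h, zero_mul] at hc1
    exact hφl hc1.symm
  -- the form vanishes on the curve
  have hsb : sb φ G.1 = 0 := by
    have h1 : rho i₀ j₀ (chart N k j ⊓ chart N k l) (ro _ inf_le_left (dl k j G.1)) = 0 := by
      rw [hG, map_mul, hy, mul_zero]
    rw [rho_ro i₀ j₀ (inf_le_left : chart N k j ⊓ chart N k l ≤ chart N k j)] at h1
    have h2 := congrArg (evx (⟨x, hx⟩ : (i₀ ⁻¹ᵁ j₀ ⁻¹ᵁ (chart N k j ⊓ chart N k l) :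
      (CohB1.ProjSpace 1 k).Opens))) h1
    have h3 : chi i₀ j₀ j ⟨x, hj⟩ G.1 = 0 := h2.trans (map_zero _)
    have h4 := chi_hom i₀ j₀ φ hφ hr j ⟨x, hj⟩ hGh
    rw [h3, zero_mul] at h4
    exact al_injective _ (h4.symm.trans (map_zero _).symm)
  have hrj := rho_dl i₀ j₀ φ hφ hr hGh hsb j
  have hrl := rho_dl i₀ j₀ φ hφ hr hGh hsb l
  -- the two values
  have h1 := tv_comp_ro i₀ j₀ φ q hφ hs (inf_le_left : chart N k j ⊓ chart N k l ≤ chart N k j) (dl k j G.1) hrj x hx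
  have h2 := tv_comp_ro i₀ j₀ φ q hφ hs' (inf_le_right : chart N k j ⊓ chart N k l ≤ chart N k l) (dl k l G.1) hrl x hx
  have h3 := snd_dch_dl i₀ j₀ φ q hφ hr ⟨x, hj⟩ hGh hrj
  have h4 := snd_dch_dl i₀ j₀ φ q hφ hr ⟨x, hl⟩ hGh hrl
  rw [← h1, hG, tv_comp_mul i₀ j₀ s _ _ y hy, map_pow, map_pow, hc] at h3
  rw [← h2] at h4
  have h5 := ro_dl hGh j l (inf_le_left : chart N k j ⊓ chart N k l ≤ chart N k j) inf_le_right
  have h6 : rho i₀ j₀ (chart N k j ⊓ chart N k l) (ro _ inf_le_right (dl k l G.1)) = 0 := by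
    rw [rho_ro i₀ j₀ (inf_le_right : chart N k j ⊓ chart N k l ≤ chart N k l), hrl, map_zero]
  have h7 := tv_comp_mul i₀ j₀ s' (i₀.preimage_mono (j₀.preimage_mono (inf_le_right :
    chart N k j ⊓ chart N k l ≤ chart N k l))) (ro _ inf_le_left (dl k j (MvPolynomial.X l)) ^ e) _ h6 ⟨x, hx⟩
  rw [← h5, hG, tv_comp_mul i₀ j₀ s' _ _ y hy, map_pow, map_pow, map_pow, map_pow, hc] at h7
  refine mul_left_cancel₀ (pow_ne_zero m hc0) (mul_right_cancel₀ (pow_ne_zero e hφj) (h3.trans ?_))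
  rw [h7]
  refine h4.symm.trans ?_
  have h8 : al (⟨x, hl⟩ : VV i₀ j₀ l) (φ l).1 = chi i₀ j₀ j ⟨x, hj⟩ (MvPolynomial.X l) *
      al (⟨x, hj⟩ : VV i₀ j₀ j) (φ j).1 := hc1.symm
  rw [h8, mul_pow]
  ring

include hr in
theorem exists_hom {a : ℕ} (hna : d + a = n)
    (hz : ∀ (j : Fin (N + 1)) (x : VV i₀ j₀ j) (y : Γ(CohB1.ProjSpace N k, chart N k j)),
      j₀.app (chart N k j) y = 0 → (dch i₀ j₀ φ q hφ j x y).snd = 0) :
    ∃ θ : Omega.conormal i₀ ⟶ Twist.twistProjSpace 1 k (a : ℤ), ∀ (e : ℕ) (G : MvPolynomial (Fin (N + 1)) k),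
      G.IsHomogeneous e → sb φ G = 0 → ∀ (j : Fin (N + 1)) (x : VV i₀ j₀ j),
        T i₀ j₀ θ j G x * al x (φ j).1 ^ e = al x (∑ l, (q l).1 * sb φ (MvPolynomial.pderiv l G)) := by
  choose s hs using fun j => exists_local i₀ j₀ φ q hφ hr hna hz j
  obtain ⟨t, ht⟩ := exists_glue (homSheaf (Omega.conormal i₀) (Twist.twistProjSpace 1 k (a : ℤ)))
    (fun j => VV i₀ j₀ j) ⊤ (by rw [iSup_VV]) (fun _ => le_top) s (by
      intro j l W hj hl
      have haff : IsAffineOpen (i₀ ⁻¹ᵁ j₀ ⁻¹ᵁ (chart N k j ⊓ chart N k l)) :=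
        ((isAffineOpen_inf j l).preimage j₀).preimage i₀
      have h1 : rs (homSheaf (Omega.conormal i₀) (Twist.twistProjSpace 1 k (a : ℤ)))
          (i₀.preimage_mono (j₀.preimage_mono (inf_le_left : chart N k j ⊓ chart N k l ≤ chart N k j))) (s j) =
        rs (homSheaf (Omega.conormal i₀) (Twist.twistProjSpace 1 k (a : ℤ)))
          (i₀.preimage_mono (j₀.preimage_mono (inf_le_right : chart N k j ⊓ chart N k l ≤ chart N k l))) (s l) := by
        refine comp_injective (Groth.Agent.Dual.H366.ConSec.isQCoh_conormal i₀) haff fun m => ?_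
        refine con_induction i₀ j₀ (isAffineOpen_inf j l) (P := fun m =>
          comp (s j) (i₀ ⁻¹ᵁ j₀ ⁻¹ᵁ (chart N k j ⊓ chart N k l)) (i₀.preimage_mono (j₀.preimage_mono inf_le_left)) m =
          comp (s l) (i₀ ⁻¹ᵁ j₀ ⁻¹ᵁ (chart N k j ⊓ chart N k l)) (i₀.preimage_mono (j₀.preimage_mono inf_le_right)) m)
          ?_ ?_ ?_ m
        · intro m m' h1 h2
          exact (map_add _ _ _).trans ((congrArg₂ _ h1 h2).trans (map_add _ _ _).symm)
        · intro r m h1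
          exact (map_smul _ _ _).trans ((congrArg _ h1).trans (map_smul _ _ _).symm)
        · intro y hy
          exact comp_eq i₀ j₀ φ q hφ hr j l (hs j) (hs l) y hy
      have hW : W ≤ i₀ ⁻¹ᵁ j₀ ⁻¹ᵁ (chart N k j ⊓ chart N k l) := fun x hx => ⟨hj hx, hl hx⟩
      have h2 := congrArg (rs (homSheaf (Omega.conormal i₀) (Twist.twistProjSpace 1 k (a : ℤ))) hW) h1
      rw [rs_rs, rs_rs] at h2
      exact h2)
  refine ⟨toHom t, fun e G hG hsb j x => ?_⟩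
  have hrj := rho_dl i₀ j₀ φ hφ hr hG hsb j
  have h1 : (toHom t).app (VV i₀ j₀ j) (cl i₀ j₀ (chart N k j) (dl k j G)) =
      comp (s j) (VV i₀ j₀ j) le_rfl (cl i₀ j₀ (chart N k j) (dl k j G)) := by
    rw [← ht j]
    rfl
  rw [T, h1, hs j _ hrj]
  exact snd_dch_dl i₀ j₀ φ q hφ hr x hG hrj

end Curve

section Cubic

theorem exists_der (f : LefPen.Form 4 k 3) (i : CohB1.ProjSpace 1 k ⟶ Xf f) [IsClosedImmersion i] {d : ℕ}
    (c : Fin (d + 1) → Fin 5 → k) (hi : IsPar f d c i) {n a : ℕ} (hna : d + a = n) (q : Fin 5 → LefPen.Form 1 k n)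
    (hq : ∑ l, (q l).1 * sb (N := 4) (bform c) (MvPolynomial.pderiv l f.1) = 0) :
    ∃ θ : Omega.conormal i ⟶ Twist.twistProjSpace 1 k (a : ℤ), ∀ (e : ℕ) (G : MvPolynomial (Fin 5) k),
      G.IsHomogeneous e → sb (N := 4) (bform c) G = 0 → ∀ (j : Fin 5) (x : VV i (emb f) j),
        T i (emb f) θ j G x * al x (bform c j).1 ^ e =
          al x (∑ l, (q l).1 * sb (N := 4) (bform c) (MvPolynomial.pderiv l G)) := by
  have hφ : GivenBy (i ≫ emb f) (Twist.twistProjSpace 1 k (d : ℤ)) (fun l => glob (bform c l)) := hi.2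
  have hr : (i ≫ emb f) ≫ CohB1.ProjSpace.toSpec 4 k = CohB1.ProjSpace.toSpec 1 k := by
    rw [Category.assoc]; exact hi.1
  refine exists_hom (N := 4) i (emb f) (bform c) q hφ hr hna ?_
  intro j x y hy
  have hfh : f.1.IsHomogeneous 3 := (MvPolynomial.mem_homogeneousSubmodule _ _).1 f.2
  have hy1 : y ∈ (hypIdeal f).ideal ⟨chart 4 k j, isAffineOpen_chart j⟩ := by
    rw [← Scheme.IdealSheafData.ker_subschemeι_app]
    exact hy
  rw [hypIdeal_ideal_of_le f j ⟨chart 4 k j, isAffineOpen_chart j⟩ le_rfl] at hy1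
  obtain ⟨A, hA⟩ := Ideal.mem_span_singleton'.1 hy1
  have hA' : y = A * dl k j f.1 := by
    rw [dl_form, ← hA]
    congr 1
  have h0 : rho i (emb f) (chart 4 k j) (dl k j f.1) = 0 := by
    rw [rho_apply]
    have h := K475.ConHom.app_dl_eq_zero f j
    exact (congrArg (i.app (emb f ⁻¹ᵁ chart 4 k j)) h).trans (map_zero _)
  have hsb : sb (N := 4) (bform c) f.1 = 0 := by
    have h3 : chi i (emb f) j x f.1 = 0 := (congrArg (evx x) h0).trans (map_zero _)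
    have h4 := chi_hom (N := 4) i (emb f) (bform c) hφ hr j x hfh
    rw [h3, zero_mul] at h4
    exact al_injective _ (h4.symm.trans (map_zero _).symm)
  have h5 := dch_hom (N := 4) i (emb f) (bform c) q hφ j x hfh
  have h6 : EE (N := 4) (bform c) q x f.1 = 0 := by
    refine TrivSqZeroExt.ext ?_ ?_
    · rw [fst_EE, hsb, map_zero]; rfl
    · rw [snd_EE, DD, hq, map_zero]; rfl
  rw [h6] at h5
  have h7 : dch (N := 4) i (emb f) (bform c) q hφ j x (dl k j f.1) = 0 :=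
    (((isUnit_gam (N := 4) i (emb f) (bform c) q hφ j x).pow 3).mul_left_eq_zero).1 h5
  rw [hA', map_mul, h7, mul_zero]
  rfl

end Cubic

end K434.Der
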