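import Groth.Agent.Lefpen.H649.JacSmooth
import Mathlib.RingTheory.Smooth.Flat
import Mathlib.RingTheory.Spectrum.Prime.Chevalley
import Mathlib.FieldTheory.IsAlgClosed.Basic
import Mathlib.RingTheory.Jacobson.Ring
import Mathlib.RingTheory.Flat.Basic
import Mathlib.Algebra.MvPolynomial.PDeriv

/-!
# Smooth square systems of polynomial equations over an algebraically closed field are open

`square`: `h : κ → k[x][u]` a square system (`κ` equations, `κ` unknowns `u`) with a zero `(x₀, u₀)` at which the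
Jacobian determinant in the direction of `u` and `g` do not vanish.  Then for all `x` in a principal open neighbourhood
of `x₀` there is a zero `u` of `h(x, -)` with `g(x, u) ≠ 0`.
-/

set_option autoImplicit false

universe u

namespace K434.OpenMap

open MvPolynomial

variable {k : Type u} [Field k]

/-- evaluation of both sets of variables -/
noncomputable def evv {σ κ : Type} (x : σ → k) (u : κ → k) : MvPolynomial κ (MvPolynomial σ k) →+* k :=
  eval₂Hom (eval x) u

theorem evv_C {σ κ : Type} (x : σ → k) (u : κ → k) (a : MvPolynomial σ k) : evv x u (C a) = eval x a := by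
  simp [evv]

theorem evv_X {σ κ : Type} (x : σ → k) (u : κ → k) (j : κ) : evv x u (X j) = u j := by
  simp [evv]

/-- Two ring homomorphisms out of `k[x][u]` agree. -/
theorem eq_evv {σ κ : Type} {R : Type*} [CommRing R] [Algebra k R] (f g : MvPolynomial κ (MvPolynomial σ k) →+* R)
    (h1 : ∀ c, f (C (C c)) = g (C (C c))) (h2 : ∀ i, f (C (X i)) = g (C (X i))) (h3 : ∀ j, f (X j) = g (X j)) :
    f = g := by
  refine MvPolynomial.ringHom_ext (fun a => ?_) h3
  have : f.comp C = g.comp C := MvPolynomial.ringHom_ext h1 h2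
  exact congrArg (fun φ : MvPolynomial σ k →+* R => φ a) this

/-- The étale algebra of a square system. -/
theorem smooth_away {A : Type*} [CommRing A] {κ : Type} [Fintype κ] [DecidableEq κ]
    (h : κ → MvPolynomial κ A) (g : MvPolynomial κ A) :
    Algebra.Smooth A (Localization.Away (Ideal.Quotient.mk (Ideal.span (Set.range h))
      ((Matrix.of fun i j => pderiv i (h j)).det * g))) := by
  let P : Algebra.PreSubmersivePresentation A (MvPolynomial κ A ⧸ Ideal.span (Set.range h)) κ κ :=
    Algebra.PreSubmersivePresentation.naive (v := h) id Function.injective_id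
  have hP : P.jacobian = Ideal.Quotient.mk (Ideal.span (Set.range h))
      (Matrix.of fun i j => pderiv i (h j)).det := by
    rw [Algebra.PreSubmersivePresentation.jacobian_eq_jacobiMatrix_det]
    have : P.jacobiMatrix = Matrix.of fun i j => pderiv i (h j) := by
      ext i j : 1
      rw [Algebra.PreSubmersivePresentation.jacobiMatrix_apply]
      rfl
    rw [this]
    rfl
  have h1 : Algebra.IsStandardSmoothOfRelativeDimension 0 A
      (Localization.Away (Ideal.Quotient.mk (Ideal.span (Set.range h))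
        ((Matrix.of fun i j => pderiv i (h j)).det * g))) := by
    refine Groth.Agent.Lefpen.H649.JacSmooth.isStandardSmoothOfRelativeDimension_of_isLocalizationAway P
      (Ideal.Quotient.mk (Ideal.span (Set.range h)) ((Matrix.of fun i j => pderiv i (h j)).det * g)) ?_ 0
      (by simp [Algebra.Presentation.dimension])
    rw [hP]
    refine isUnit_of_mul_isUnit_left (y := algebraMap _ _ (Ideal.Quotient.mk (Ideal.span (Set.range h)) g)) ?_
    rw [← map_mul, ← map_mul]
    exact IsLocalization.Away.algebraMap_isUnit _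
  have h2 := Algebra.IsStandardSmoothOfRelativeDimension.isStandardSmooth 0 (R := A)
    (S := Localization.Away (Ideal.Quotient.mk (Ideal.span (Set.range h))
        ((Matrix.of fun i j => pderiv i (h j)).det * g)))
  infer_instance

/-- The universal property of the étale algebra of a square system. -/
theorem exists_away {A : Type u} [CommRing A] {κ : Type} [Fintype κ] [DecidableEq κ]
    (h : κ → MvPolynomial κ A) (g : MvPolynomial κ A) :
    ∃ (B : Type u) (_ : CommRing B) (_ : Algebra A B) (π : MvPolynomial κ A →+* B), Algebra.Smooth A B ∧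
      (∀ a, algebraMap A B a = π (C a)) ∧ (∀ i, π (h i) = 0) ∧
      IsUnit (π ((Matrix.of fun i j => pderiv i (h j)).det * g)) ∧
      ∀ (K : Type u) [Field K] (ev : MvPolynomial κ A →+* K), (∀ i, ev (h i) = 0) →
        ev ((Matrix.of fun i j => pderiv i (h j)).det * g) ≠ 0 → ∃ φ : B →+* K, ∀ p, φ (π p) = ev p := by
  let J : Ideal (MvPolynomial κ A) := Ideal.span (Set.range h)
  let r : MvPolynomial κ A ⧸ J := Ideal.Quotient.mk J ((Matrix.of fun i j => pderiv i (h j)).det * g)
  refine ⟨Localization.Away r, inferInstance, inferInstance,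
    (algebraMap (MvPolynomial κ A ⧸ J) (Localization.Away r)).comp (Ideal.Quotient.mk J), smooth_away h g,
    fun a => ?_, fun i => ?_, IsLocalization.Away.algebraMap_isUnit r, fun K _ ev h0 hr => ?_⟩
  · rw [IsScalarTower.algebraMap_apply A (MvPolynomial κ A ⧸ J)]
    rfl
  · have h1 : Ideal.Quotient.mk J (h i) = 0 := Ideal.Quotient.eq_zero_iff_mem.mpr (Ideal.subset_span ⟨i, rfl⟩)
    rw [RingHom.comp_apply, h1, map_zero]
  · have hJ : ∀ a ∈ J, ev a = 0 := by
      intro a ha
      have : J ≤ RingHom.ker ev := by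
        rw [Ideal.span_le]
        rintro _ ⟨i, rfl⟩
        exact h0 i
      exact this ha
    have hu : IsUnit (Ideal.Quotient.lift J ev hJ r) := by
      rw [Ideal.Quotient.lift_mk]
      exact isUnit_iff_ne_zero.mpr hr
    refine ⟨IsLocalization.Away.lift r hu, fun p => ?_⟩
    rw [RingHom.comp_apply, IsLocalization.Away.lift_eq, Ideal.Quotient.lift_mk]

section

variable [IsAlgClosed k]

/-- Closed points of a `k`-algebra of finite type. -/
theorem exists_point {B : Type*} [CommRing B] [Algebra k B] [Algebra.FiniteType k B] (Q : Ideal B) (hQ : Q ≠ ⊤) :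
    ∃ ψ : B →ₐ[k] k, ∀ b ∈ Q, ψ b = 0 := by
  obtain ⟨M, hM, hQM⟩ := Ideal.exists_le_maximal Q hQ
  let _ : Field (B ⧸ M) := Ideal.Quotient.field M
  have : Algebra.FiniteType k (B ⧸ M) := inferInstance
  have : Module.Finite k (B ⧸ M) := finite_of_finite_type_of_isJacobsonRing k (B ⧸ M)
  let l : (B ⧸ M) →ₐ[k] k := IsAlgClosed.lift
  refine ⟨l.comp (Ideal.Quotient.mkₐ k M), fun b hb => ?_⟩
  have : Ideal.Quotient.mkₐ k M b = 0 := Ideal.Quotient.eq_zero_iff_mem.mpr (hQM hb)
  rw [AlgHom.comp_apply, this, map_zero]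

theorem square_aux {σ κ : Type} [Finite σ] (h : κ → MvPolynomial κ (MvPolynomial σ k))
    (s : MvPolynomial κ (MvPolynomial σ k)) {x₀ : σ → k} {u₀ : κ → k}
    (B : Type u) [CommRing B] [Algebra (MvPolynomial σ k) B] [Algebra.Smooth (MvPolynomial σ k) B]
    (π : MvPolynomial κ (MvPolynomial σ k) →+* B) (hAB : ∀ a, algebraMap (MvPolynomial σ k) B a = π (C a))
    (hπ : ∀ i, π (h i) = 0) (hs : IsUnit (π s)) (φ₀ : B →+* k) (hφ₀ : ∀ p, φ₀ (π p) = evv x₀ u₀ p) :
    ∃ f : MvPolynomial σ k, eval x₀ f ≠ 0 ∧ ∀ x, eval x f ≠ 0 →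
      ∃ u : κ → k, evv x u s ≠ 0 ∧ ∀ i, evv x u (h i) = 0 := by
  have hfp : Algebra.FinitePresentation (MvPolynomial σ k) B := inferInstance
  have hflat : Module.Flat (MvPolynomial σ k) B := inferInstance
  have hop : IsOpenMap (PrimeSpectrum.comap (algebraMap (MvPolynomial σ k) B)) :=
    PrimeSpectrum.isOpenMap_comap_of_hasGoingDown_of_finitePresentation
  have hmx : ∀ x : σ → k, (RingHom.ker (eval x : MvPolynomial σ k →+* k)).IsMaximal := fun x =>
    RingHom.ker_isMaximal_of_surjective _ (fun c => ⟨C c, eval_C c⟩)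
  have hmem : (⟨RingHom.ker (eval x₀ : MvPolynomial σ k →+* k), (hmx x₀).isPrime⟩ :
      PrimeSpectrum (MvPolynomial σ k)) ∈
      Set.range (PrimeSpectrum.comap (algebraMap (MvPolynomial σ k) B)) := by
    refine ⟨⟨RingHom.ker φ₀, RingHom.ker_isPrime φ₀⟩, ?_⟩
    ext a
    simp only [PrimeSpectrum.comap_asIdeal, Ideal.mem_comap, RingHom.mem_ker]
    rw [hAB, hφ₀, evv_C]
  obtain ⟨_, ⟨f, rfl⟩, hf1, hf2⟩ := PrimeSpectrum.isTopologicalBasis_basic_opens.exists_subset_of_mem_open hmem
    hop.isOpen_range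
  refine ⟨f, fun hf => hf1 ?_, fun x hx => ?_⟩
  · exact hf
  have hmem : (⟨RingHom.ker (eval x : MvPolynomial σ k →+* k), (hmx x).isPrime⟩ :
      PrimeSpectrum (MvPolynomial σ k)) ∈
      Set.range (PrimeSpectrum.comap (algebraMap (MvPolynomial σ k) B)) := hf2 hx
  obtain ⟨Q, hQ⟩ := hmem
  let _ : Algebra k B := ((algebraMap (MvPolynomial σ k) B).comp (C : k →+* MvPolynomial σ k)).toAlgebra
  have : IsScalarTower k (MvPolynomial σ k) B := IsScalarTower.of_algebraMap_eq fun _ => rfl
  have : Algebra.FiniteType k B :=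
    Algebra.FiniteType.trans (inferInstance : Algebra.FiniteType k (MvPolynomial σ k))
      (inferInstance : Algebra.FiniteType (MvPolynomial σ k) B)
  obtain ⟨ψ, hψ⟩ := exists_point (k := k) Q.asIdeal Q.2.ne_top
  have hx1 : ∀ a : MvPolynomial σ k, eval x a = 0 → ψ (algebraMap (MvPolynomial σ k) B a) = 0 := by
    intro a ha
    refine hψ _ ?_
    have h1 := congrArg PrimeSpectrum.asIdeal hQ
    have h2 : a ∈ (PrimeSpectrum.comap (algebraMap (MvPolynomial σ k) B) Q).asIdeal := by
      rw [h1]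
      exact ha
    exact h2
  have key : (ψ : B →+* k).comp π = evv x (fun j => ψ (π (X j))) := by
    refine eq_evv _ _ (fun c => ?_) (fun i => ?_) (fun j => ?_)
    · rw [evv_C, eval_C]
      simp only [RingHom.comp_apply, RingHom.coe_coe]
      rw [← hAB]
      exact ψ.commutes c
    · rw [evv_C, eval_X]
      simp only [RingHom.comp_apply, RingHom.coe_coe]
      rw [← hAB]
      have h1 := hx1 (X i - C (x i)) (by simp)
      rw [map_sub, map_sub, sub_eq_zero] at h1
      rw [h1]
      exact ψ.commutes (x i)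
    · rw [evv_X]
      rfl
  have key' : ∀ p, ψ (π p) = evv x (fun j => ψ (π (X j))) p := fun p =>
    congrArg (fun φ : MvPolynomial κ (MvPolynomial σ k) →+* k => φ p) key
  refine ⟨fun j => ψ (π (X j)), fun hgu => ?_, fun i => ?_⟩
  · have h1 : IsUnit (ψ (π s)) := hs.map ψ
    rw [key', hgu] at h1
    exact not_isUnit_zero h1
  · rw [← key', hπ, map_zero]

theorem square {σ κ : Type} [Finite σ] [Fintype κ] [DecidableEq κ] (h : κ → MvPolynomial κ (MvPolynomial σ k))
    (g : MvPolynomial κ (MvPolynomial σ k)) {x₀ : σ → k} {u₀ : κ → k} (h0 : ∀ i, evv x₀ u₀ (h i) = 0)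
    (hdet : evv x₀ u₀ (Matrix.of fun i j => pderiv i (h j)).det ≠ 0) (hg : evv x₀ u₀ g ≠ 0) :
    ∃ f : MvPolynomial σ k, eval x₀ f ≠ 0 ∧ ∀ x, eval x f ≠ 0 →
      ∃ u : κ → k, evv x u g ≠ 0 ∧ ∀ i, evv x u (h i) = 0 := by
  obtain ⟨B, _, _, π, hsm, hAB, hπ, hu, hB⟩ := exists_away h g
  have hr : evv x₀ u₀ ((Matrix.of fun i j => pderiv i (h j)).det * g) ≠ 0 := by
    rw [map_mul]; exact mul_ne_zero hdet hg
  obtain ⟨φ₀, hφ₀⟩ := hB k (evv x₀ u₀) h0 hr
  obtain ⟨f, hf, hfx⟩ := square_aux h ((Matrix.of fun i j => pderiv i (h j)).det * g)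
    (x₀ := x₀) (u₀ := u₀) B π hAB hπ hu φ₀ hφ₀
  refine ⟨f, hf, fun x hx => ?_⟩
  obtain ⟨u, hu, hu'⟩ := hfx x hx
  rw [map_mul] at hu
  exact ⟨u, right_ne_zero_of_mul hu, hu'⟩

end

end K434.OpenMap
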